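import Mathlib
import Groth.Agent.Lib.Helper18.SpreadFPD
import Groth.Agent.Lib.Helper45.SpreadETAT
import Groth.Agent.Lib.Helper76.SpreadLIM

/-!
# Spreading out an étale algebra over a localization, with a solution (helper19, for S6843)
-/

set_option autoImplicit false
set_option linter.style.haveILetI false
universe u

namespace Groth.Agent.Lib.Helper19.Spread

open Groth.Agent.Lib.Helper18.SpreadFPD Groth.Agent.Lib.Helper45.SpreadETAT
  Groth.Agent.Lib.Helper76.SpreadLIM

theorem exists_etale_spread {R : Type u} [CommRing R] (p : Ideal R) [p.IsPrime] (R'' : Type u)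
    [CommRing R''] [Algebra (Localization.AtPrime p) R'']
    [Algebra.Etale (Localization.AtPrime p) R''] [Algebra R R'']
    [IsScalarTower R (Localization.AtPrime p) R''] (m'' : Ideal R'') [m''.IsPrime] {n m : ℕ}
    (F : Fin m → MvPolynomial (Fin n) R) (b'' : Fin n → R'')
    (hb'' : ∀ j, MvPolynomial.aeval b'' (F j) = 0) :
    ∃ (R' : Type u) (_ : CommRing R') (_ : Algebra R R') (_ : Algebra.Etale R R')
      (θ : R' →ₐ[R] Localization.AtPrime m'') (b : Fin n → R'),
      (∀ j, MvPolynomial.aeval b (F j) = 0) ∧
      ∀ i, θ (b i) = algebraMap R'' (Localization.AtPrime m'') (b'' i) := by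
  obtain ⟨C, _, _, _, _, _, hloc⟩ :=
    exists_fp_model p.primeCompl (Localization.AtPrime p) R''
  obtain ⟨h₀, hh₀, het⟩ := exists_etale_away p R'' C m''
  let q : Ideal C := m''.comap (algebraMap C R'')
  haveI : q.IsPrime := Ideal.comap_isPrime _ _
  haveI : IsLocalization.AtPrime (Localization.AtPrime m'') q :=
    IsLocalization.isLocalization_isLocalization_atPrime_isLocalization
      (Algebra.algebraMapSubmonoid C p.primeCompl) (Localization.AtPrime m'') m''
  have hq₀ : h₀ ∉ q := hh₀
  obtain ⟨h, hhq, b, hb, hθ⟩ := exists_away_solution q (Localization.AtPrime m'') h₀ hq₀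
    (fun j => MvPolynomial.map (algebraMap R C) (F j))
    (fun i => algebraMap R'' (Localization.AtPrime m'') (b'' i)) (by
      intro j
      rw [MvPolynomial.aeval_map_algebraMap]
      have := MvPolynomial.aeval_algebraMap_apply (Localization.AtPrime m'') b'' (F j)
      rw [Function.comp_def] at this
      rw [this, hb'' j, map_zero])
  have hunit : ∀ y : Submonoid.powers (h₀ * h),
      IsUnit ((Algebra.ofId C (Localization.AtPrime m'')) y) := by
    rintro ⟨_, k, rfl⟩
    rw [map_pow]
    refine IsUnit.pow _ ?_
    exact IsLocalization.map_units (Localization.AtPrime m'') (M := q.primeCompl)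
      ⟨h₀ * h, fun hmem => (Ideal.IsPrime.mem_or_mem inferInstance hmem).elim hq₀ hhq⟩
  let θC : Localization.Away (h₀ * h) →ₐ[C] Localization.AtPrime m'' :=
    IsLocalization.liftAlgHom (M := Submonoid.powers (h₀ * h))
      (f := Algebra.ofId C (Localization.AtPrime m'')) hunit
  have het' : Algebra.Etale R (Localization.Away (h₀ * h)) := by
    rw [← Algebra.basicOpen_subset_etaleLocus_iff_etale] at het ⊢
    exact fun x hx => het (PrimeSpectrum.basicOpen_mul_le_left h₀ h hx)
  refine ⟨Localization.Away (h₀ * h), inferInstance, inferInstance, het',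
    θC.restrictScalars R, b, ?_, ?_⟩
  · intro j
    have := hb j
    rwa [MvPolynomial.aeval_map_algebraMap] at this
  · intro i
    exact hθ θC i

end Groth.Agent.Lib.Helper19.Spread
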