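import Mathlib
import Groth.Prelude.Def_Smoothing
import Groth.Prelude.Def_Found
import Groth.Agent.Lib.Helper19.Spread.Asm

/-!
# S6843 from S6825 (helper19)
-/

set_option autoImplicit false
set_option linter.style.haveILetI false
universe u

namespace Groth.Agent.Lib.Helper19.Spread

open IsLocalRing

/-- the statement of S6825 -/
def H6825 : Prop := ∀ {R : Type u} [CommRing R] [IsLocalRing R] (_ : CAlg.IsGRing R)
    {n m : ℕ} (F : Fin m → MvPolynomial (Fin n) R)
    (a : Fin n → AdicCompletion (IsLocalRing.maximalIdeal R) R)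
    (_ : ∀ j, MvPolynomial.aeval a (F j) = 0) (N : ℕ),
    ∃ (R' : Type u) (_ : CommRing R') (_ : Algebra R R'), Algebra.Etale R R' ∧
      ∃ (ψ : R' →ₐ[R] AdicCompletion (IsLocalRing.maximalIdeal R) R) (m' : Ideal R'),
        m'.IsMaximal ∧
        m'.comap (algebraMap R R') = IsLocalRing.maximalIdeal R ∧
        (∀ x : R', ∃ r : R, x - algebraMap R R' r ∈ m') ∧
        (∀ x ∈ m', ψ x ∈ (IsLocalRing.maximalIdeal R).map
          (algebraMap R (AdicCompletion (IsLocalRing.maximalIdeal R) R))) ∧
        ∃ b : Fin n → R', (∀ j, MvPolynomial.aeval b (F j) = 0) ∧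
          ∀ i, a i - ψ (b i) ∈ (IsLocalRing.maximalIdeal R ^ N).map
            (algebraMap R (AdicCompletion (IsLocalRing.maximalIdeal R) R))

section Res

variable {Rp R'' : Type u} [CommRing Rp] [IsLocalRing Rp] [CommRing R''] [Algebra Rp R'']
  (m'' : Ideal R'') [hmax : m''.IsMaximal]

include hmax in
/-- residue field of the localization is that of `Rp`. -/
theorem exists_sub_mem_maximalIdeal
    (hcomap : m''.comap (algebraMap Rp R'') = maximalIdeal Rp)
    (hres : ∀ x : R'', ∃ r : Rp, x - algebraMap Rp R'' r ∈ m'')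
    (w : Localization.AtPrime m'') :
    ∃ ρ : Rp, w - algebraMap R'' (Localization.AtPrime m'') (algebraMap Rp R'' ρ) ∈
      maximalIdeal (Localization.AtPrime m'') := by
  obtain ⟨x'', t, rfl⟩ := IsLocalization.exists_mk'_eq m''.primeCompl w
  obtain ⟨ρ₁, h1⟩ := hres x''
  obtain ⟨ρ₂, h2⟩ := hres t
  have hρ₂ : IsUnit ρ₂ := by
    by_contra hnu
    have hmem : ρ₂ ∈ maximalIdeal Rp := (IsLocalRing.mem_maximalIdeal _).mpr hnu
    rw [← hcomap, Ideal.mem_comap] at hmem
    have : (t : R'') ∈ m'' := by
      have := m''.add_mem h2 hmem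
      rwa [sub_add_cancel] at this
    exact t.2 this
  obtain ⟨u, hu⟩ := hρ₂.exists_right_inv
  refine ⟨ρ₁ * u, ?_⟩
  set W := Localization.AtPrime m''
  set al : R'' →+* W := algebraMap R'' W
  have hmemW : ∀ z ∈ m'', al z ∈ maximalIdeal W := fun z hz =>
    (IsLocalization.AtPrime.to_map_mem_maximal_iff W m'' z).mpr hz
  have ht : IsUnit (al t) := IsLocalization.map_units W t
  have key : al t * (IsLocalization.mk' W x'' t - al (algebraMap Rp R'' (ρ₁ * u))) ∈
      maximalIdeal W := by
    have e1 : al t * (IsLocalization.mk' W x'' t - al (algebraMap Rp R'' (ρ₁ * u))) =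
        al ((x'' - algebraMap Rp R'' ρ₁) +
          algebraMap Rp R'' (ρ₁ * u) * (algebraMap Rp R'' ρ₂ - t)) := by
      have hsp : al t * IsLocalization.mk' W x'' t = al x'' := by
        rw [mul_comm]; exact IsLocalization.mk'_spec W x'' t
      have hu' : algebraMap Rp R'' ρ₂ * algebraMap Rp R'' u = 1 := by
        rw [← map_mul, hu, map_one]
      rw [mul_sub, hsp, ← map_mul, ← map_sub]
      congr 1
      rw [map_mul]
      have : algebraMap Rp R'' ρ₁ * algebraMap Rp R'' u * (algebraMap Rp R'' ρ₂ - ↑t) =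
        algebraMap Rp R'' ρ₁ * (algebraMap Rp R'' ρ₂ * algebraMap Rp R'' u) -
          algebraMap Rp R'' ρ₁ * algebraMap Rp R'' u * ↑t := by ring
      rw [this, hu']
      ring
    rw [e1]
    apply hmemW
    refine m''.add_mem h1 (m''.mul_mem_left _ ?_)
    have := m''.neg_mem h2
    rwa [neg_sub] at this
  have := (maximalIdeal W).mul_mem_left (↑ht.unit⁻¹ : W) key
  rwa [← mul_assoc, IsUnit.val_inv_mul, one_mul] at this

end Res

theorem main (H : H6825.{u}) {R : Type u} [CommRing R] [IsNoetherianRing R]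
    (p : Ideal R) [p.IsPrime] (hG : CAlg.IsGRing (Localization.AtPrime p)) {n m : ℕ}
    (F : Fin m → MvPolynomial (Fin n) R)
    (a : Fin n → AdicCompletion (IsLocalRing.maximalIdeal (Localization.AtPrime p))
      (Localization.AtPrime p))
    (ha : ∀ j, MvPolynomial.aeval a
      (MvPolynomial.map (algebraMap R (Localization.AtPrime p)) (F j)) = 0) (N : ℕ) :
    ∃ (R' : Type u) (_ : CommRing R') (_ : Algebra R R'), Algebra.Etale R R' ∧
      ∃ (ψ : R' →+* AdicCompletion (IsLocalRing.maximalIdeal (Localization.AtPrime p))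
          (Localization.AtPrime p))
        (p' : Ideal R'), p'.IsPrime ∧
        (∀ r : R, ψ (algebraMap R R' r) =
          algebraMap (Localization.AtPrime p) _ (algebraMap R (Localization.AtPrime p) r)) ∧
        p'.comap (algebraMap R R') = p ∧
        (∀ x : R', ∃ r s : R, s ∉ p ∧ algebraMap R R' s * x - algebraMap R R' r ∈ p') ∧
        (∀ x ∈ p', ψ x ∈ (IsLocalRing.maximalIdeal (Localization.AtPrime p)).map
          (algebraMap (Localization.AtPrime p)
            (AdicCompletion (IsLocalRing.maximalIdeal (Localization.AtPrime p))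
              (Localization.AtPrime p)))) ∧
        ∃ b : Fin n → R', (∀ j, MvPolynomial.aeval b (F j) = 0) ∧
          ∀ i, a i - ψ (b i) ∈ (IsLocalRing.maximalIdeal (Localization.AtPrime p) ^ N).map
            (algebraMap (Localization.AtPrime p)
              (AdicCompletion (IsLocalRing.maximalIdeal (Localization.AtPrime p))
                (Localization.AtPrime p))) := by
  obtain ⟨R'', _, _, het, ψ'', m'', hmax, hcomap, hres, hψm, b'', hb'', hab⟩ :=
    H hG (fun j => MvPolynomial.map (algebraMap R (Localization.AtPrime p)) (F j)) a ha N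
  letI : Algebra R R'' :=
    ((algebraMap (Localization.AtPrime p) R'').comp (algebraMap R (Localization.AtPrime p))).toAlgebra
  haveI : IsScalarTower R (Localization.AtPrime p) R'' :=
    IsScalarTower.of_algebraMap_eq (fun _ => rfl)
  haveI := het
  haveI : m''.IsPrime := hmax.isPrime
  haveI : IsNoetherianRing (Localization.AtPrime p) :=
    IsLocalization.isNoetherianRing p.primeCompl _ inferInstance
  have hb2 : ∀ j, MvPolynomial.aeval b'' (F j) = 0 := by
    intro j
    have := hb'' j
    rwa [MvPolynomial.aeval_map_algebraMap] at this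
  obtain ⟨R', _, _, het', θ, b, hb, hθb⟩ := exists_etale_spread p R'' m'' F b'' hb2
  set Rp := Localization.AtPrime p with hRp
  set W := Localization.AtPrime m'' with hW
  set Ahat := AdicCompletion (IsLocalRing.maximalIdeal Rp) Rp with hAhat
  have hmaxhat : maximalIdeal Ahat = (maximalIdeal Rp).map (algebraMap Rp Ahat) :=
    AdicCompletion.maximalIdeal_eq_map
  have hunit : ∀ y : m''.primeCompl, IsUnit (ψ''.toRingHom y) := by
    intro y
    obtain ⟨z, i, hi, hzi⟩ := hmax.exists_inv y.2
    have h1 : ψ'' z * ψ'' y = 1 - ψ'' i := by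
      have h0 := congrArg ψ'' hzi
      rw [map_add, map_mul, map_one] at h0
      exact eq_sub_of_add_eq h0
    have h2 : IsUnit (ψ'' z * ψ'' y) := by
      rw [h1]
      apply IsLocalRing.isUnit_one_sub_self_of_mem_nonunits
      rw [← IsLocalRing.mem_maximalIdeal, hmaxhat]
      exact hψm i hi
    exact isUnit_of_mul_isUnit_right h2
  let ψW : W →+* Ahat := IsLocalization.lift (M := m''.primeCompl) (S := W) hunit
  have hψW : ∀ x : R'', ψW (algebraMap R'' W x) = ψ'' x := fun x =>
    IsLocalization.lift_eq (M := m''.primeCompl) (S := W) hunit x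
  have hθR : ∀ r : R, θ (algebraMap R R' r) =
      algebraMap R'' W (algebraMap Rp R'' (algebraMap R Rp r)) := by
    intro r
    rw [θ.commutes, IsScalarTower.algebraMap_apply R R'' W]
    rfl
  refine ⟨R', inferInstance, inferInstance, het', ψW.comp θ.toRingHom,
    (maximalIdeal W).comap θ.toRingHom, Ideal.comap_isPrime _ _, ?_, ?_, ?_, ?_, b, hb, ?_⟩
  · intro r
    change ψW (θ (algebraMap R R' r)) = _
    rw [hθR, hψW, ψ''.commutes]
  · ext x
    change θ (algebraMap R R' x) ∈ maximalIdeal W ↔ _
    rw [hθR, IsLocalization.AtPrime.to_map_mem_maximal_iff W m'', ← Ideal.mem_comap, hcomap,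
      IsLocalization.AtPrime.to_map_mem_maximal_iff Rp p]
  · intro x
    obtain ⟨ρ, hρ⟩ := exists_sub_mem_maximalIdeal m'' hcomap hres (θ x)
    obtain ⟨r, s, rfl⟩ := IsLocalization.exists_mk'_eq p.primeCompl ρ
    refine ⟨r, s, s.2, ?_⟩
    change θ (algebraMap R R' s * x - algebraMap R R' r) ∈ maximalIdeal W
    rw [map_sub, map_mul, hθR, hθR]
    have hs : algebraMap Rp R'' (algebraMap R Rp s) * algebraMap Rp R'' (IsLocalization.mk' Rp r s)
        = algebraMap Rp R'' (algebraMap R Rp r) := by
      rw [← map_mul, mul_comm, IsLocalization.mk'_spec]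
    have := (maximalIdeal W).mul_mem_left
      (algebraMap R'' W (algebraMap Rp R'' (algebraMap R Rp s))) hρ
    rwa [mul_sub, ← map_mul, hs] at this
  · intro x hx
    have hcx : (ψW.comp θ.toRingHom) x = ψW (θ x) := rfl
    rw [hcx]
    have hx' : θ x ∈ maximalIdeal W := hx
    obtain ⟨x'', t, hxt⟩ := IsLocalization.exists_mk'_eq m''.primeCompl (θ x)
    rw [← hxt] at hx' ⊢
    rw [IsLocalization.AtPrime.mk'_mem_maximal_iff W m''] at hx'
    rw [IsLocalization.lift_mk']
    exact Ideal.mul_mem_right _ _ (hψm x'' hx')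
  · intro i
    have hcx : (ψW.comp θ.toRingHom) (b i) = ψW (θ (b i)) := rfl
    rw [hcx, hθb, hψW]
    exact hab i

end Groth.Agent.Lib.Helper19.Spread
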