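import Mathlib
import Groth.Prelude.Def_Smoothing
import Groth.Prelude.Def_Found
import Groth.Agent.Lib.Helper19.Spread.Main6843
import Groth.Agent.S0595
import Groth.Agent.S0543
import Groth.Agent.Lib.Helper27.SmoothSection
import Groth.Agent.Lib.Helper58.HenselPairUniq
import Groth.Agent.Lib.Helper49.GRingLocal
import Groth.Agent.Lib.Helper83.ZarLaur2
import Groth.Agent.Lib.Helper76.ComplFacts

/-!
# The local étale-neighbourhood Artin approximation (statement of S6825), from Popescu (helper19)

Insurance copy: Popescu (S0595) + helper27's étale section lemma + étale lifting to the completion.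
-/

set_option autoImplicit false
set_option linter.style.haveILetI false
universe u

namespace Groth.Agent.Lib.Helper19.Spread

open IsLocalRing

theorem h6825 : H6825.{u} := by
  intro R _ _ hG n m F a ha N
  classical
  haveI : IsNoetherianRing R := hG.1
  have hreg := Groth.Agent.Lib.Helper49.GRingLocal.isRegularHom_cpl_of_isGRing R hG
  haveI : IsNoetherianRing (AdicCompletion (maximalIdeal R) R) :=
    Groth.Agent.S0543.result R (maximalIdeal R)
  have hIfg : (maximalIdeal R).FG := (isNoetherianRing_iff_ideal_fg R).mp inferInstance _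
  -- the finitely presented algebra of the system
  let K : Ideal (MvPolynomial (Fin n) R) := Ideal.span (Set.range F)
  have hKfg : K.FG := Submodule.fg_span (Set.finite_range F)
  haveI : Algebra.FinitePresentation R (MvPolynomial (Fin n) R ⧸ K) :=
    Algebra.FinitePresentation.quotient hKfg
  have hav : ∀ x ∈ K, MvPolynomial.aeval a x = 0 := by
    intro x hx
    have hle : K ≤ RingHom.ker
        (MvPolynomial.aeval a : MvPolynomial (Fin n) R →ₐ[R] _).toRingHom := by
      refine Ideal.span_le.mpr ?_
      rintro _ ⟨j, rfl⟩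
      exact ha j
    exact hle hx
  let f : (MvPolynomial (Fin n) R ⧸ K) →ₐ[R] AdicCompletion (maximalIdeal R) R :=
    Ideal.Quotient.liftₐ K (MvPolynomial.aeval a) hav
  obtain ⟨B, _, _, hsm, g, h, hgh⟩ :=
    Groth.Agent.S0595.result R (AdicCompletion (maximalIdeal R) R) hreg
      (MvPolynomial (Fin n) R ⧸ K) f
  haveI := hsm
  -- section modulo `m ^ (N + 1)`
  let σ : B →ₐ[R] R ⧸ maximalIdeal R ^ (N + 1) :=
    (AdicCompletion.evalₐ (maximalIdeal R) (N + 1)).comp h
  obtain ⟨R', _, _, het, ε, τ, -, hετ⟩ :=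
    Groth.Agent.Lib.Helper27.SmoothSection.exists_etale_section (maximalIdeal R ^ (N + 1)) σ
  haveI := het
  -- lift `ε` to the completion
  have hker := Groth.Agent.Lib.Helper76.ComplFacts.ker_evalₐ (maximalIdeal R) hIfg (N + 1)
  let J' : Ideal (AdicCompletion (maximalIdeal R) R) :=
    RingHom.ker (AdicCompletion.evalₐ (maximalIdeal R) (N + 1) :
      AdicCompletion (maximalIdeal R) R →+* R ⧸ maximalIdeal R ^ (N + 1))
  have hmaxhat : maximalIdeal (AdicCompletion (maximalIdeal R) R) =
      (maximalIdeal R).map (algebraMap R (AdicCompletion (maximalIdeal R) R)) :=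
    AdicCompletion.maximalIdeal_eq_map
  haveI : HenselianRing (AdicCompletion (maximalIdeal R) R) J' :=
    Groth.Agent.Lib.Helper83.ZarLaur.henselian_of_pow_le
      (maximalIdeal (AdicCompletion (maximalIdeal R) R)) J' 1 (by
        rw [pow_one]
        change RingHom.ker _ ≤ _
        rw [hker, hmaxhat]
        exact Ideal.pow_le_self (Nat.succ_ne_zero N))
  have hsurj : Function.Surjective (AdicCompletion.evalₐ (maximalIdeal R) (N + 1)) :=
    AdicCompletion.surjective_evalₐ (maximalIdeal R) (N + 1)
  let e : (AdicCompletion (maximalIdeal R) R ⧸ J') ≃ₐ[R] R ⧸ maximalIdeal R ^ (N + 1) :=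
    Ideal.quotientKerAlgEquivOfSurjective hsurj
  obtain ⟨ψ, hψ⟩ := Groth.Agent.Lib.Helper58.HenselPair.exists_etale_lift_rel (R := R) (S := R')
    (C := AdicCompletion (maximalIdeal R) R) J' ((e.symm : _ →ₐ[R] _).comp ε)
  have hψε : ∀ x : R', AdicCompletion.evalₐ (maximalIdeal R) (N + 1) (ψ x) = ε x := by
    intro x
    have h1 : Ideal.Quotient.mkₐ R J' (ψ x) = e.symm (ε x) := AlgHom.congr_fun hψ x
    have h2 : e (Ideal.Quotient.mkₐ R J' (ψ x)) = ε x := by
      rw [h1, AlgEquiv.apply_symm_apply]
    exact h2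
  -- the residue map
  let ρ : R' →ₐ[R] R ⧸ maximalIdeal R :=
    (Ideal.Quotient.factorₐ R (Ideal.pow_le_self (Nat.succ_ne_zero N))).comp ε
  have hρsurj : Function.Surjective ρ := by
    intro y
    obtain ⟨r, rfl⟩ := Ideal.Quotient.mk_surjective y
    exact ⟨algebraMap R R' r, ρ.commutes r⟩
  have hρalg : ∀ r : R, ρ (algebraMap R R' r) = Ideal.Quotient.mk _ r := fun r => ρ.commutes r
  have hmemJ : ∀ z : AdicCompletion (maximalIdeal R) R,
      AdicCompletion.evalₐ (maximalIdeal R) (N + 1) z = 0 →
      z ∈ (maximalIdeal R ^ (N + 1)).map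
        (algebraMap R (AdicCompletion (maximalIdeal R) R)) := by
    intro z hz
    have : z ∈ J' := hz
    change z ∈ RingHom.ker _ at this
    rwa [hker, ← Ideal.map_pow] at this
  letI := Ideal.Quotient.field (maximalIdeal R)
  refine ⟨R', inferInstance, inferInstance, het, ψ, RingHom.ker ρ.toRingHom,
    RingHom.ker_isMaximal_of_surjective ρ.toRingHom hρsurj, ?_, ?_, ?_,
    fun i => τ (g (Ideal.Quotient.mk K (MvPolynomial.X i))), ?_, ?_⟩
  · ext x
    rw [Ideal.mem_comap, RingHom.mem_ker]
    change ρ (algebraMap R R' x) = 0 ↔ _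
    rw [hρalg, Ideal.Quotient.eq_zero_iff_mem]
  · intro x
    obtain ⟨r, hr⟩ := Ideal.Quotient.mk_surjective (ρ x)
    refine ⟨r, ?_⟩
    rw [RingHom.mem_ker]
    change ρ (x - algebraMap R R' r) = 0
    rw [map_sub, hρalg, hr, sub_self]
  · intro x hx
    rw [RingHom.mem_ker] at hx
    have hx' : ρ x = 0 := hx
    obtain ⟨r, hr⟩ := Ideal.Quotient.mk_surjective (ε x)
    have hrm : r ∈ maximalIdeal R := by
      have : ρ x = Ideal.Quotient.mk _ r := by
        change Ideal.Quotient.factorₐ R (Ideal.pow_le_self (Nat.succ_ne_zero N)) (ε x) = _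
        rw [← hr]
        rfl
      rw [this, Ideal.Quotient.eq_zero_iff_mem] at hx'
      exact hx'
    have h0 : AdicCompletion.evalₐ (maximalIdeal R) (N + 1)
        (ψ x - algebraMap R (AdicCompletion (maximalIdeal R) R) r) = 0 := by
      rw [map_sub, hψε, AlgHom.commutes, ← hr]
      exact sub_self _
    have h1 := hmemJ _ h0
    have h2 : (maximalIdeal R ^ (N + 1)).map
        (algebraMap R (AdicCompletion (maximalIdeal R) R)) ≤
        (maximalIdeal R).map (algebraMap R (AdicCompletion (maximalIdeal R) R)) :=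
      Ideal.map_mono (Ideal.pow_le_self (Nat.succ_ne_zero N))
    have h3 := Ideal.add_mem _ (h2 h1) (Ideal.mem_map_of_mem
      (algebraMap R (AdicCompletion (maximalIdeal R) R)) hrm)
    rwa [sub_add_cancel] at h3
  · intro j
    let ρ' : MvPolynomial (Fin n) R →ₐ[R] R' := τ.comp (g.comp (Ideal.Quotient.mkₐ R K))
    have h1 : ρ' = MvPolynomial.aeval (fun i => ρ' (MvPolynomial.X i)) := by
      apply MvPolynomial.algHom_ext
      intro i
      simp
    have h2 : MvPolynomial.aeval (fun i => τ (g (Ideal.Quotient.mk K (MvPolynomial.X i)))) (F j)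
        = ρ' (F j) := by
      conv_rhs => rw [h1]
      rfl
    rw [h2]
    have h3 : Ideal.Quotient.mkₐ R K (F j) = 0 := by
      change Ideal.Quotient.mk K (F j) = 0
      rw [Ideal.Quotient.eq_zero_iff_mem]
      exact Ideal.subset_span ⟨j, rfl⟩
    change τ (g (Ideal.Quotient.mkₐ R K (F j))) = 0
    rw [h3, map_zero, map_zero]
  · intro i
    have e1 : a i = h (g (Ideal.Quotient.mk K (MvPolynomial.X i))) := by
      have := AlgHom.congr_fun hgh (Ideal.Quotient.mk K (MvPolynomial.X i))
      rw [AlgHom.comp_apply] at this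
      rw [this]
      change a i = Ideal.Quotient.liftₐ K (MvPolynomial.aeval a) hav
        (Ideal.Quotient.mk K (MvPolynomial.X i))
      rw [Ideal.Quotient.liftₐ_apply, Ideal.Quotient.lift_mk]
      simp
    have h0 : AdicCompletion.evalₐ (maximalIdeal R) (N + 1)
        (a i - ψ (τ (g (Ideal.Quotient.mk K (MvPolynomial.X i))))) = 0 := by
      rw [map_sub, hψε, e1]
      have := AlgHom.congr_fun hετ (g (Ideal.Quotient.mk K (MvPolynomial.X i)))
      rw [AlgHom.comp_apply] at this
      rw [this]
      exact sub_self _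
    have h1 := hmemJ _ h0
    exact Ideal.map_mono (Ideal.pow_le_pow_right (Nat.le_succ N)) h1

end Groth.Agent.Lib.Helper19.Spread
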